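import Groth.Agent.L05.Henselization.ComplConnected
import Groth.Agent.L05.Point.UnramFlat
import Groth.Agent.S4951
import Mathlib.AlgebraicGeometry.Geometrically.Reduced
import Mathlib.AlgebraicGeometry.Noetherian
import Mathlib.CategoryTheory.Limits.Shapes.Pullback.Mono
import Mathlib.RingTheory.Flat.FaithfullyFlat.Algebra

/-!
Connectedness of complements in schemes flat with geometrically reduced fibres over geometrically
unibranch schemes.
-/

set_option autoImplicit false
set_option linter.style.haveILetI false
set_option maxSynthPendingDepth 3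
set_option backward.isDefEq.respectTransparency.types false
set_option backward.isDefEq.respectTransparency false

universe u

open CategoryTheory CategoryTheory.Limits AlgebraicGeometry TopologicalSpace

namespace Groth.L05.ComplConnectedScheme

/-- A flat preimmersion into a reduced scheme has reduced source. -/
theorem isReduced_of_flat_preimmersion {P Q : Scheme.{u}} (g : P ⟶ Q) [Flat g] [IsPreimmersion g]
    [AlgebraicGeometry.IsReduced Q] : AlgebraicGeometry.IsReduced P := by
  haveI : ∀ z : P, _root_.IsReduced (P.presheaf.stalk z) := fun z => by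
    letI := (g.stalkMap z).hom.toAlgebra
    haveI : Module.Flat (Q.presheaf.stalk (g z)) (P.presheaf.stalk z) := Flat.stalkMap g z
    haveI : IsLocalHom (algebraMap (Q.presheaf.stalk (g z)) (P.presheaf.stalk z)) :=
      inferInstanceAs (IsLocalHom (g.stalkMap z).hom)
    haveI : Module.FaithfullyFlat (Q.presheaf.stalk (g z)) (P.presheaf.stalk z) :=
      Module.FaithfullyFlat.of_flat_of_isLocalHom
    let e := RingEquiv.ofBijective (g.stalkMap z).hom
      ⟨FaithfulSMul.algebraMap_injective (Q.presheaf.stalk (g z)) (P.presheaf.stalk z),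
        g.stalkMap_surjective z⟩
    exact isReduced_of_injective e.symm e.symm.injective
  exact isReduced_of_isReduced_stalk P

/-- The map of local rings has geometrically reduced fibres. -/
theorem geometricallyReduced_stalkMap {X Y : Scheme.{u}} (f : X ⟶ Y) [GeometricallyReduced f] (x : X) :
    GeometricallyReduced (Spec.map (f.stalkMap x)) := by
  refine ⟨fun K _ y Z fst snd h => ?_⟩
  haveI : Flat (X.fromSpecStalk x) := Groth.L05.Point.flat_fromSpecStalk x
  let ι := Y.fromSpecStalk (f x)
  have h' : IsPullback fst snd (X.fromSpecStalk x ≫ f) (y ≫ ι) := by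
    have h1 : IsPullback fst snd (Spec.map (f.stalkMap x) ≫ ι) (y ≫ ι) :=
      IsPullback.of_isLimit (PullbackCone.isLimitOfCompMono _ _ ι h.cone h.isLimit)
    rwa [show Spec.map (f.stalkMap x) ≫ ι = X.fromSpecStalk x ≫ f from
      Scheme.SpecMap_stalkMap_fromSpecStalk f] at h1
  haveI : AlgebraicGeometry.IsReduced (pullback f (y ≫ ι)) :=
    GeometricallyReduced.geometrically_isReduced _ _ _ (IsPullback.of_hasPullback f (y ≫ ι))
  let u : Z ⟶ pullback f (y ≫ ι) := pullback.lift (fst ≫ X.fromSpecStalk x) snd
    (by rw [Category.assoc]; exact h'.w)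
  have hu : IsPullback fst u (X.fromSpecStalk x) (pullback.fst f (y ≫ ι)) :=
    IsPullback.of_bot (by rwa [pullback.lift_snd]) (pullback.lift_fst _ _ _).symm
      (IsPullback.of_hasPullback f (y ≫ ι))
  haveI : Flat u := MorphismProperty.of_isPullback hu ‹Flat (X.fromSpecStalk x)›
  haveI : IsPreimmersion u := MorphismProperty.of_isPullback hu (inferInstance : IsPreimmersion (X.fromSpecStalk x))
  exact isReduced_of_flat_preimmersion u

/-- The closure of a point with no other generization has nonempty interior. -/
theorem interior_closure_nonempty_of_maximal {Y : Scheme.{u}} [IsLocallyNoetherian Y] (y : Y)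
    (h : ∀ z : Y, z ⤳ y → z = y) : (interior (closure ({y} : Set Y))).Nonempty := by
  obtain ⟨V, hV, hyV, -⟩ := exists_isAffineOpen_mem_and_subset (X := Y) (x := y) (U := ⊤) trivial
  haveI : IsNoetherianRing Γ(Y, V) := IsLocallyNoetherian.component_noetherian ⟨V, hV⟩
  haveI : NoetherianSpace (V : Set Y) := noetherianSpace_of_isAffineOpen V hV
  let v : (V : Set Y) := ⟨y, hyV⟩
  haveI : QuasiSober (V : Set Y) := V.2.isOpenEmbedding_subtypeVal.quasiSober
  have hZ := irreducibleComponent_mem_irreducibleComponents v
  have hgen := (isIrreducible_irreducibleComponent (x := v)).isGenericPoint_genericPoint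
    (isClosed_irreducibleComponent)
  have hv : (isIrreducible_irreducibleComponent (x := v)).genericPoint = v :=
    Subtype.ext (h _ ((hgen.specializes mem_irreducibleComponent).map continuous_subtype_val))
  obtain ⟨o, ho, hone, hoZ⟩ := NoetherianSpace.exists_isOpen_nonempty_subset_irreducibleComponent _ hZ
  refine Set.Nonempty.mono ?_ (hone.image Subtype.val)
  refine interior_maximal ?_ (V.2.isOpenMap_subtype_val o ho)
  rintro _ ⟨w, hw, rfl⟩
  have := hgen.specializes (hoZ hw)
  rw [hv] at this
  exact (this.map continuous_subtype_val).mem_closure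

/-- A flat morphism maps maximal points to maximal points. -/
theorem maximal_of_flat {X Y : Scheme.{u}} (f : X ⟶ Y) [Flat f] (x : X) (h : ∀ z : X, z ⤳ x → z = x)
    (y' : Y) (hy' : y' ⤳ f x) : y' = f x := by
  letI := (f.stalkMap x).hom.toAlgebra
  haveI : Module.Flat (Y.presheaf.stalk (f x)) (X.presheaf.stalk x) := Flat.stalkMap f x
  haveI : IsLocalHom (algebraMap (Y.presheaf.stalk (f x)) (X.presheaf.stalk x)) :=
    inferInstanceAs (IsLocalHom (f.stalkMap x).hom)
  haveI : Module.FaithfullyFlat (Y.presheaf.stalk (f x)) (X.presheaf.stalk x) :=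
    Module.FaithfullyFlat.of_flat_of_isLocalHom
  obtain ⟨p, rfl⟩ : y' ∈ Set.range (Y.fromSpecStalk (f x)) := by rw [Scheme.range_fromSpecStalk]; exact hy'
  obtain ⟨q, rfl⟩ := PrimeSpectrum.comap_surjective_of_faithfullyFlat (A := Y.presheaf.stalk (f x))
    (B := X.presheaf.stalk x) p
  have hq : X.fromSpecStalk x q ⤳ x := by
    have : X.fromSpecStalk x q ∈ Set.range (X.fromSpecStalk x) := ⟨q, rfl⟩
    rwa [Scheme.range_fromSpecStalk] at this
  refine Eq.trans ?_ (congrArg f (h _ hq))
  show (Spec.map (f.stalkMap x) ≫ Y.fromSpecStalk (f x)) q = _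
  rw [Scheme.SpecMap_stalkMap_fromSpecStalk, Scheme.Hom.comp_apply]

/-- Connectedness of the complement of a closed set over non maximal points, from the punctured local spectra. -/
theorem isConnected_compl_of_local {X Y : Scheme.{u}} [IsLocallyNoetherian X] [ConnectedSpace X]
    (f : X ⟶ Y) [Flat f] (T : Set X) (hT : IsClosed T)
    (hnm : ∀ x ∈ T, ¬ ∀ z : Y, z ⤳ f x → z = f x)
    (hloc : ∀ x ∈ T, _root_.IsConnected ({IsLocalRing.closedPoint (X.presheaf.stalk x)}ᶜ :
      Set (PrimeSpectrum (X.presheaf.stalk x)))) : IsConnected Tᶜ := by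
  refine Groth.Agent.S4951.result (fun x => ?_) T hT ?_ fun x hx => ?_
  · obtain ⟨U, hU, hxU, -⟩ := exists_isAffineOpen_mem_and_subset (X := X) (x := x) (U := ⊤) trivial
    haveI : IsNoetherianRing Γ(X, U) := IsLocallyNoetherian.component_noetherian ⟨U, hU⟩
    exact ⟨U, U.2.mem_nhds hxU, noetherianSpace_of_isAffineOpen U hU⟩
  · rw [hT.isNowhereDense_iff, Set.eq_empty_iff_forall_notMem]
    intro w hw
    have hgen := (isIrreducible_irreducibleComponent (x := w)).isGenericPoint_genericPoint
      (isClosed_irreducibleComponent)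
    let x := (isIrreducible_irreducibleComponent (x := w)).genericPoint
    have hx : x ∈ interior T := (hgen.specializes mem_irreducibleComponent).mem_open isOpen_interior hw
    refine hnm x (interior_subset hx) (maximal_of_flat f x fun z hz => ?_)
    have hsub : irreducibleComponent w ⊆ closure {z} := by
      rw [← hgen.def]
      exact closure_minimal (Set.singleton_subset_iff.mpr hz.mem_closure) isClosed_closure
    have hmax := (irreducibleComponent_mem_irreducibleComponents w).2
      isIrreducible_singleton.closure hsub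
    exact (hgen.specializes (hmax (subset_closure rfl))).antisymm hz |>.symm.eq
  · let c : PrimeSpectrum (X.presheaf.stalk x) := IsLocalRing.closedPoint _
    have hc : _root_.IsConnected ({c}ᶜ : Set (PrimeSpectrum (X.presheaf.stalk x))) := hloc x hx
    have himg := hc.image (X.fromSpecStalk x) (X.fromSpecStalk x).continuous.continuousOn
    refine IsConnected.isPreconnected ?_
    convert himg using 1
    ext z
    constructor
    · rintro ⟨hz, hne⟩
      obtain ⟨r, rfl⟩ : z ∈ Set.range (X.fromSpecStalk x) := by rw [Scheme.range_fromSpecStalk]; exact hz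
      refine ⟨r, fun h => hne ?_, rfl⟩
      rw [show r = c from h]
      exact Scheme.fromSpecStalk_closedPoint
    · rintro ⟨r, hr, rfl⟩
      refine ⟨?_, fun h => hr ((X.fromSpecStalk x).isEmbedding.injective (h.trans Scheme.fromSpecStalk_closedPoint.symm))⟩
      have : X.fromSpecStalk x r ∈ Set.range (X.fromSpecStalk x) := ⟨r, rfl⟩
      rwa [Scheme.range_fromSpecStalk] at this

/-- The complement of a closed set over a nowhere dense closed set is connected. -/
theorem isConnected_compl {X Y : Scheme.{u}} [IsLocallyNoetherian X] [IsLocallyNoetherian Y] [ConnectedSpace X]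
    (f : X ⟶ Y) [Flat f] [GeometricallyReduced f] (T : Set X) (hT : IsClosed T)
    (hY : ∀ x ∈ T, CAlg2.IsGeomUnibranch (Y.presheaf.stalk (f x)))
    (hT' : interior (closure (f '' T)) = ∅) : IsConnected Tᶜ := by
  have hnm : ∀ x ∈ T, ¬ ∀ z : Y, z ⤳ f x → z = f x := fun x hx hmax => by
    obtain ⟨w, hw⟩ := interior_closure_nonempty_of_maximal (f x) hmax
    have := interior_mono (closure_mono (Set.singleton_subset_iff.mpr (Set.mem_image_of_mem f hx))) hw
    rwa [hT'] at this
  refine isConnected_compl_of_local f T hT hnm fun x hx => ?_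
  letI := (f.stalkMap x).hom.toAlgebra
  haveI : Module.Flat (Y.presheaf.stalk (f x)) (X.presheaf.stalk x) := Flat.stalkMap f x
  haveI : IsLocalHom (algebraMap (Y.presheaf.stalk (f x)) (X.presheaf.stalk x)) :=
    inferInstanceAs (IsLocalHom (f.stalkMap x).hom)
  haveI : GeometricallyReduced (Spec.map (CommRingCat.ofHom
      (algebraMap (Y.presheaf.stalk (f x)) (X.presheaf.stalk x)))) := geometricallyReduced_stalkMap f x
  let c : PrimeSpectrum (X.presheaf.stalk x) := IsLocalRing.closedPoint _
  let c' : PrimeSpectrum (Y.presheaf.stalk (f x)) := IsLocalRing.closedPoint _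
  have hcomap : PrimeSpectrum.comap (algebraMap (Y.presheaf.stalk (f x)) (X.presheaf.stalk x)) '' {c} = {c'} := by
    rw [Set.image_singleton]
    exact congrArg _ (IsLocalRing.comap_closedPoint _)
  have hint : interior (closure ({c'} : Set (PrimeSpectrum (Y.presheaf.stalk (f x))))) = ∅ := by
    rw [(IsLocalRing.isClosed_singleton_closedPoint _).closure_eq, Set.eq_empty_iff_forall_notMem]
    intro p hp
    refine hnm x hx fun z hz => ?_
    obtain ⟨r, rfl⟩ : z ∈ Set.range (Y.fromSpecStalk (f x)) := by rw [Scheme.range_fromSpecStalk]; exact hz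
    have hr : r ∈ interior ({c'} : Set (PrimeSpectrum (Y.presheaf.stalk (f x)))) := by
      have hpc : p = c' := Set.mem_singleton_iff.mp (interior_subset hp)
      exact (IsLocalRing.specializes_closedPoint r).mem_open isOpen_interior (by rw [hpc] at hp; exact hp)
    rw [show r = c' from Set.mem_singleton_iff.mp (interior_subset hr)]
    exact Scheme.fromSpecStalk_closedPoint
  exact Groth.L05.Henselization.ComplConnected.isConnected_compl (Y.presheaf.stalk (f x))
    (X.presheaf.stalk x) (hY x hx) {c} (by rw [hcomap]; exact hint)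

end Groth.L05.ComplConnectedScheme
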