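import Groth.Agent.L05.Henselization.ComplConnected
import Groth.Agent.L01.MoriNagata
import Groth.Agent.L03.RegularFiniteExt
import Mathlib.RingTheory.Spectrum.Prime.Topology
import Mathlib.RingTheory.Flat.Basic
import Mathlib.LinearAlgebra.TensorProduct.Pi

/-!
Connectedness of punctured spectra over geometrically unibranch local domains of dimension at least two.
-/

set_option autoImplicit false
set_option maxSynthPendingDepth 3
set_option linter.style.haveILetI false

open IsLocalRing TensorProduct

namespace Groth.L05.ComplConnectedScheme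

universe u

/-- An element of the fraction field with denominators powers of every element of the maximal ideal is
integral, when the maximal ideals of the integral closure have height at least two. -/
theorem isIntegral_of_punctured (A : Type u) [CommRing A] [IsDomain A] [IsNoetherianRing A] [IsLocalRing A]
    (hdim : ∀ M : Ideal (integralClosure A (FractionRing A)), M.IsMaximal → 2 ≤ M.height)
    (x : FractionRing A) (hx : ∀ a ∈ maximalIdeal A, ∃ n : ℕ, IsIntegral A (algebraMap A _ a ^ n * x)) :
    IsIntegral A x := by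
  obtain ⟨C, hfin, hC, hgen⟩ := Groth.L01.MoriCompletion.exists_finite_subalgebra A
  haveI := hfin
  have hC' : C ≤ integralClosure A (FractionRing A) := hC
  refine Groth.L01.MoriNagata.mem_of_forall hC' hgen x fun p _ hp => ?_
  let A' := integralClosure A (FractionRing A)
  letI : Algebra C A' := (Subalgebra.inclusion hC').toRingHom.toAlgebra
  haveI : IsScalarTower A C A' := IsScalarTower.of_algebraMap_eq fun a => ((Subalgebra.inclusion hC').commutes a).symm
  haveI : Algebra.IsIntegral C A' := Algebra.IsIntegral.tower_top (R := A)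
  obtain ⟨Q, -, hQ, hQp⟩ := Ideal.exists_ideal_over_prime_of_isIntegral (S := A') p ⊥ (by
    show Ideal.comap (Subalgebra.inclusion hC').toRingHom ⊥ ≤ p
    rw [Ideal.comap_bot_of_injective (Subalgebra.inclusion hC').toRingHom (Subalgebra.inclusion_injective hC')]
    exact bot_le)
  haveI := hQ
  by_cases hpm : maximalIdeal A ≤ p.comap (algebraMap A C)
  · exfalso
    have hQA : Q.comap (algebraMap A A') = p.comap (algebraMap A C) := by
      rw [← hQp, Ideal.comap_comap, ← IsScalarTower.algebraMap_eq A C A']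
    haveI : (Q.comap (algebraMap A A')).IsMaximal := by
      rw [hQA, ← (maximalIdeal.isMaximal A).eq_of_le (Ideal.comap_ne_top _ (Ideal.IsPrime.ne_top inferInstance)) hpm]
      exact maximalIdeal.isMaximal A
    have hQmax := Ideal.isMaximal_of_isIntegral_of_isMaximal_comap (R := A) Q inferInstance
    have h2 := hdim Q hQmax
    rw [← Groth.L01.MoriNagata.height_comap hC' hgen Q,
      show Q.comap (Subalgebra.inclusion hC') = p from hQp, hp] at h2
    exact absurd (show ((2 : ℕ) : ℕ∞) ≤ ((1 : ℕ) : ℕ∞) from h2) (by decide)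
  · obtain ⟨a, ha, hap⟩ := SetLike.not_le_iff_exists.mp hpm
    obtain ⟨n, hn⟩ := hx a ha
    refine ⟨algebraMap A C a ^ n, fun h => hap (Ideal.IsPrime.mem_of_pow_mem (I := p) inferInstance n h), ?_⟩
    exact hn

/-- An element of a flat base change of the fraction field with denominators powers of finitely many elements
comes from the fractions with such denominators. -/
theorem mem_range_lTensor_iInf (A B : Type u) [CommRing A] [CommRing B] [Algebra A B] [Module.Flat A B]
    (M : Type u) [AddCommGroup M] [Module A M] {ι : Type u} [Finite ι] (L : ι → Submodule A M) (e : B ⊗[A] M)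
    (he : ∀ i, LinearMap.lTensor B (L i).mkQ e = 0) :
    e ∈ LinearMap.range (LinearMap.lTensor B (⨅ i, L i).subtype) := by
  classical
  haveI := Fintype.ofFinite ι
  let f : M →ₗ[A] ((i : ι) → M ⧸ L i) := LinearMap.pi fun i => (L i).mkQ
  have hex : Function.Exact (⨅ i, L i).subtype f := by
    intro m
    constructor
    · intro hm
      refine ⟨⟨m, (Submodule.mem_iInf _).mpr fun i => ?_⟩, rfl⟩
      exact (Submodule.Quotient.mk_eq_zero _).mp (congrFun hm i)
    · rintro ⟨y, rfl⟩
      exact funext fun i => (Submodule.Quotient.mk_eq_zero _).mpr ((Submodule.mem_iInf _).mp y.2 i)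
  refine (Module.Flat.lTensor_exact B hex e).mp ?_
  refine (TensorProduct.piRight A A B (fun i => M ⧸ L i)).injective ?_
  rw [map_zero]
  funext i
  rw [Pi.zero_apply, ← he i]
  have : ((LinearMap.proj i).comp ((TensorProduct.piRight A A B (fun i => M ⧸ L i)).toLinearMap.comp
      (LinearMap.lTensor B f))) = LinearMap.lTensor B (L i).mkQ := TensorProduct.ext' fun b m => by simp [f]
  exact LinearMap.congr_fun this e

/-- Over a geometrically unibranch local domain of dimension at least two, the punctured spectrum of a flat local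
algebra is connected. -/
theorem isConnected_punctured (A B : Type u) [CommRing A] [IsLocalRing A] [IsNoetherianRing A] [IsDomain A]
    [CommRing B] [IsLocalRing B] [Algebra A B] [IsLocalHom (algebraMap A B)] [Module.Flat A B]
    (hA : CAlg2.IsGeomUnibranch A) (hdim : 2 ≤ ringKrullDim A) :
    _root_.IsConnected ({closedPoint B}ᶜ : Set (PrimeSpectrum B)) := by
  classical
  haveI := hA.1.1
  haveI := hA.1.2
  haveI := Groth.L05.Henselization.Branches.isIntegral_normRed (R := A)
  haveI : IsLocalRing (CAlg2.red A) := IsLocalRing.of_surjective' (Ideal.Quotient.mk _) Ideal.Quotient.mk_surjective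
  let K := FractionRing (CAlg2.red A)
  let N := CAlg2.normRed A
  have hinjK : Function.Injective (algebraMap A K) := by
    have h : Function.Injective (Ideal.Quotient.mk (nilradical A)) := by
      rw [RingHom.injective_iff_ker_eq_bot, Ideal.mk_ker]
      exact nilradical_eq_bot_iff.mpr inferInstance
    rw [IsScalarTower.algebraMap_eq A (CAlg2.red A) K]
    exact (IsFractionRing.injective (CAlg2.red A) K).comp h
  haveI : Module.FaithfullyFlat A B := Module.FaithfullyFlat.of_flat_of_isLocalHom
  let g : B →+* B ⊗[A] K := Algebra.TensorProduct.includeLeftRingHom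
  let S := Set.range (PrimeSpectrum.comap g)
  have hS : ∀ P : PrimeSpectrum B, P.asIdeal.comap (algebraMap A B) = ⊥ → P ∈ S := by
    intro P hP
    let kP := P.asIdeal.ResidueField
    have hr : Function.Injective (algebraMap A kP) := by
      rw [RingHom.injective_iff_ker_eq_bot, IsScalarTower.algebraMap_eq A B kP, ← RingHom.comap_ker,
        Ideal.ker_algebraMap_residueField, hP]
    have hr' : Function.Injective (algebraMap (CAlg2.red A) K) := IsFractionRing.injective _ _
    let r₀ : CAlg2.red A →+* kP := Ideal.Quotient.lift (nilradical A) (algebraMap A kP) fun a ha => by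
      rw [(nilradical_eq_bot_iff.mpr inferInstance : nilradical A = ⊥), Ideal.mem_bot] at ha
      rw [ha, map_zero]
    have hr₀ : Function.Injective r₀ := fun x y h => by
      obtain ⟨x, rfl⟩ := Ideal.Quotient.mk_surjective x
      obtain ⟨y, rfl⟩ := Ideal.Quotient.mk_surjective y
      exact congrArg _ (hr h)
    let rK : K →ₐ[A] kP :=
      { IsFractionRing.lift (A := CAlg2.red A) (K := K) hr₀ with
        commutes' := fun a => by
          show IsFractionRing.lift hr₀ (algebraMap A K a) = algebraMap A kP a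
          rw [IsScalarTower.algebraMap_apply A (CAlg2.red A) K, IsFractionRing.lift_algebraMap]
          rfl }
    let φ : B ⊗[A] K →ₐ[A] kP :=
      Algebra.TensorProduct.lift (IsScalarTower.toAlgHom A B kP) rK fun _ _ => Commute.all _ _
    refine ⟨⟨RingHom.ker φ.toRingHom, RingHom.ker_isPrime _⟩, PrimeSpectrum.ext ?_⟩
    ext b
    show φ (b ⊗ₜ 1) = 0 ↔ _
    rw [Algebra.TensorProduct.lift_tmul, map_one, mul_one]
    exact Ideal.algebraMap_residueField_eq_zero
  have hS' : ∀ P ∈ S, P.asIdeal.comap (algebraMap A B) = ⊥ := by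
    rintro _ ⟨P, rfl⟩
    show (P.asIdeal.comap g).comap (algebraMap A B) = ⊥
    have hc : g.comp (algebraMap A B) =
        (Algebra.TensorProduct.includeRight : K →ₐ[A] B ⊗[A] K).toRingHom.comp (algebraMap A K) :=
      RingHom.ext fun a => ((Algebra.TensorProduct.includeLeft : B →ₐ[A] B ⊗[A] K).commutes a).trans
        ((Algebra.TensorProduct.includeRight : K →ₐ[A] B ⊗[A] K).commutes a).symm
    rw [Ideal.comap_comap, hc, ← Ideal.comap_comap,
      (Ideal.eq_bot_or_top _).resolve_right (Ideal.comap_ne_top _ P.isPrime.ne_top),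
      Ideal.comap_bot_of_injective _ hinjK]
  have hdense : ∀ P : PrimeSpectrum B, ∃ Q ∈ S, Q ⤳ P := by
    intro P
    obtain ⟨Q, hQ, hQP⟩ := Ideal.exists_minimalPrimes_le (I := (⊥ : Ideal B)) (J := P.asIdeal) bot_le
    haveI := hQ.isPrime
    have hQA : Q.comap (algebraMap A B) = ⊥ := by
      have h := Groth.L05.StrictGalois.comap_mem_minimalPrimes_of_flat (R := A) hQ
      exact le_bot_iff.mp (h.2 ⟨Ideal.isPrime_bot, le_rfl⟩ bot_le)
    exact ⟨⟨Q, inferInstance⟩, hS _ hQA, (PrimeSpectrum.le_iff_specializes _ P).1 hQP⟩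
  have hm0 : maximalIdeal A ≠ ⊥ := fun h => by
    have h2 := IsLocalRing.maximalIdeal_height_eq_ringKrullDim (R := A)
    rw [h, Ideal.height_bot] at h2
    rw [← h2] at hdim
    exact absurd (show ((2 : ℕ) : ℕ∞) ≤ ((0 : ℕ) : ℕ∞) from WithBot.coe_le_coe.mp hdim) (by decide)
  let U : Set (PrimeSpectrum B) := {P | ¬ maximalIdeal A ≤ P.asIdeal.comap (algebraMap A B)}
  have hSU : S ⊆ U := fun P hP h => hm0 (le_bot_iff.mp (h.trans (hS' P hP).le))
  have hUc : U ⊆ {closedPoint B}ᶜ := by
    intro P hP h
    refine hP ?_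
    rw [Set.mem_singleton_iff.mp h]
    exact le_of_eq (IsLocalRing.maximalIdeal_comap (algebraMap A B)).symm
  have hUdense : ({closedPoint B}ᶜ : Set (PrimeSpectrum B)) ⊆ closure U := fun P _ => by
    obtain ⟨Q, hQ, hQP⟩ := hdense P
    exact closure_mono hSU (hQP.mem_closed isClosed_closure (subset_closure hQ))
  refine ⟨?_, IsPreconnected.subset_closure ?_ hUc hUdense⟩
  · obtain ⟨Q, hQ, -⟩ := hdense (closedPoint B)
    exact ⟨Q, hUc (hSU hQ)⟩
  rw [isPreconnected_iff_subset_of_disjoint]
  intro W₁ W₂ hW₁ hW₂ hcov hdisj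
  obtain ⟨s, hs⟩ : (maximalIdeal A).FG := IsNoetherian.noetherian _
  let s' := {a : A // a ∈ s ∧ a ≠ 0}
  have hUi : ∀ P ∈ U, ∃ a : s', algebraMap A B a.1 ∉ P.asIdeal := by
    intro P hP
    by_contra h
    push Not at h
    refine hP ?_
    conv_lhs => rw [← hs]
    refine Ideal.span_le.mpr fun a ha => ?_
    by_cases ha0 : a = 0
    · rw [ha0]; exact zero_mem _
    · exact h ⟨a, ha, ha0⟩
  have hWU : ∀ a : s', ∀ P : PrimeSpectrum B, algebraMap A B a.1 ∉ P.asIdeal → P ∈ U := fun a P hP hle =>
    hP (hle (hs ▸ Ideal.subset_span a.2.1))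
  have hexcl : ∀ P ∈ U, P ∈ W₁ → P ∉ W₂ := fun P hP h1 h2 => by
    have : P ∈ U ∩ (W₁ ∩ W₂) := ⟨hP, h1, h2⟩
    rw [hdisj] at this
    exact this
  have hcl : IsClopen (PrimeSpectrum.comap g ⁻¹' W₁) := by
    refine ⟨?_, hW₁.preimage (PrimeSpectrum.continuous_comap g)⟩
    rw [← isOpen_compl_iff]
    convert hW₂.preimage (PrimeSpectrum.continuous_comap g) using 1
    ext P
    exact ⟨fun h => (hcov (hSU ⟨P, rfl⟩)).resolve_left h, fun h h1 => hexcl _ (hSU ⟨P, rfl⟩) h1 h⟩
  obtain ⟨e, he, heW⟩ := PrimeSpectrum.exists_idempotent_basicOpen_eq_of_isClopen hcl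
  let L : s' → Submodule A K := fun a =>
    ⨆ n : ℕ, LinearMap.range (LinearMap.toSpanSingleton A K ((algebraMap A K a.1 ^ n)⁻¹))
  have heL : ∀ a : s', LinearMap.lTensor B (L a).mkQ e = 0 := by
    intro a
    let Ba := Localization.Away (algebraMap A B a.1)
    let ga : B →+* Ba := algebraMap B Ba
    have ha0 : algebraMap A K a.1 ≠ 0 := (map_ne_zero_iff _ hinjK).mpr a.2.2
    have hu : IsUnit (g (algebraMap A B a.1)) := by
      rw [show g (algebraMap A B a.1) =
        (Algebra.TensorProduct.includeRight : K →ₐ[A] B ⊗[A] K) (algebraMap A K a.1) from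
        ((Algebra.TensorProduct.includeLeft : B →ₐ[A] B ⊗[A] K).commutes a.1).trans
          ((Algebra.TensorProduct.includeRight : K →ₐ[A] B ⊗[A] K).commutes a.1).symm]
      exact (Ne.isUnit ha0).map _
    let ψ : Ba →+* B ⊗[A] K := IsLocalization.Away.lift (S := Ba) _ hu
    have hψ : ∀ b, ψ (ga b) = g b := fun b => IsLocalization.Away.lift_eq _ hu b
    have hin : ∀ P : PrimeSpectrum Ba, PrimeSpectrum.comap ga P ∈ U := fun P => hWU a _ fun h =>
      P.isPrime.ne_top (Ideal.eq_top_of_isUnit_mem _ h (IsLocalization.Away.algebraMap_isUnit _))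
    have hcla : IsClopen (PrimeSpectrum.comap ga ⁻¹' W₁) := by
      refine ⟨?_, hW₁.preimage (PrimeSpectrum.continuous_comap ga)⟩
      rw [← isOpen_compl_iff]
      convert hW₂.preimage (PrimeSpectrum.continuous_comap ga) using 1
      ext P
      exact ⟨fun h => (hcov (hin P)).resolve_left h, fun h h1 => hexcl _ (hin P) h1 h⟩
    obtain ⟨ea, hea, heaW⟩ := PrimeSpectrum.exists_idempotent_basicOpen_eq_of_isClopen hcla
    have hee : e = ψ ea := by
      refine PrimeSpectrum.basicOpen_injOn_isIdempotentElem he (hea.map ψ) (TopologicalSpace.Opens.ext ?_)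
      rw [← heW]
      ext P
      have h1 : PrimeSpectrum.comap ψ P ∈ PrimeSpectrum.comap ga ⁻¹' W₁ ↔
          PrimeSpectrum.comap ψ P ∈ (PrimeSpectrum.basicOpen ea : Set (PrimeSpectrum Ba)) := by rw [heaW]
      rw [Set.mem_preimage, ← PrimeSpectrum.comap_comp_apply,
        show ψ.comp ga = g from RingHom.ext hψ] at h1
      exact h1
    obtain ⟨⟨b, t, n, rfl⟩, hb⟩ := IsLocalization.surj (Submonoid.powers (algebraMap A B a.1)) ea
    have hb' : e * g (algebraMap A B a.1) ^ n = g b := by
      rw [hee, ← hψ b, ← hψ (algebraMap A B a.1), ← map_pow, ← map_mul, ← map_pow]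
      exact congrArg ψ hb
    have he' : e = b ⊗ₜ[A] (algebraMap A K a.1 ^ n)⁻¹ := by
      refine (IsUnit.mul_left_inj (hu.pow n)).mp (hb'.trans ?_)
      rw [show g (algebraMap A B a.1) = (1 : B) ⊗ₜ[A] algebraMap A K a.1 from
        ((Algebra.TensorProduct.includeLeft : B →ₐ[A] B ⊗[A] K).commutes a.1).trans
          ((Algebra.TensorProduct.includeRight : K →ₐ[A] B ⊗[A] K).commutes a.1).symm,
        Algebra.TensorProduct.tmul_pow, one_pow, Algebra.TensorProduct.tmul_mul_tmul, mul_one,
        inv_mul_cancel₀ (pow_ne_zero n ha0)]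
      rfl
    rw [he', LinearMap.lTensor_tmul, Submodule.mkQ_apply,
      (Submodule.Quotient.mk_eq_zero _).mpr (Submodule.mem_iSup_of_mem (p := fun n : ℕ => LinearMap.range (LinearMap.toSpanSingleton A K ((algebraMap A K a.1 ^ n)⁻¹))) n ⟨1, by simp⟩), TensorProduct.tmul_zero]
  haveI : Finite s' := Finite.of_injective (fun a : s' => (⟨a.1, a.2.1⟩ : {x // x ∈ s}))
    fun a b h => Subtype.ext (by simpa using h)
  obtain ⟨w, hw⟩ := mem_range_lTensor_iInf A B K L e heL
  have hdimN : ∀ M : Ideal N, M.IsMaximal → 2 ≤ M.height := by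
    intro M hM
    have h1 := IsLocalRing.maximalIdeal_height_eq_ringKrullDim (R := N)
    rw [← IsLocalRing.eq_maximalIdeal hM, ← Groth.L03.RegularFiniteExt.ringKrullDim_eq_of_integral (A := CAlg2.red A) (B := N)
      (FaithfulSMul.algebraMap_injective _ _)] at h1
    have h2 : ringKrullDim (CAlg2.red A) = ringKrullDim A :=
      (ringKrullDim_eq_of_ringEquiv ((Ideal.quotEquivOfEq (nilradical_eq_bot_iff.mpr inferInstance)).trans
        (RingEquiv.quotientBot A)))
    rw [h2] at h1
    rw [← h1] at hdim
    exact WithBot.coe_le_coe.mp hdim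
  have hint : ∀ x : K, x ∈ (⨅ a, L a) → IsIntegral (CAlg2.red A) x := by
    intro x hx
    refine isIntegral_of_punctured (CAlg2.red A) hdimN x fun a₀ ha₀ => ?_
    obtain ⟨a, rfl⟩ := Ideal.Quotient.mk_surjective a₀
    have ha : a ∈ maximalIdeal A := (mem_maximalIdeal a).mpr fun hu => (mem_maximalIdeal _).mp ha₀ (hu.map _)
    have hrad : a ∈ (Ideal.span (Set.range fun a : s' => a.1)).radical := by
      refine Ideal.le_radical ?_
      rw [← hs] at ha
      refine Submodule.span_le.mpr ?_ ha
      intro z hz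
      by_cases hz0 : z = 0
      · rw [hz0]; exact zero_mem _
      · exact Ideal.subset_span ⟨⟨z, hz, hz0⟩, rfl⟩
    let I : Ideal A :=
      { carrier := {r | IsIntegral (CAlg2.red A) (algebraMap A K r * x)}
        add_mem' := fun {r r'} h h' => by
          show IsIntegral _ _
          rw [map_add, add_mul]; exact h.add h'
        zero_mem' := by show IsIntegral _ _; rw [map_zero, zero_mul]; exact isIntegral_zero
        smul_mem' := fun c r h => by
          show IsIntegral _ _
          rw [smul_eq_mul, map_mul, mul_assoc, IsScalarTower.algebraMap_apply A (CAlg2.red A) K c]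
          exact isIntegral_algebraMap.mul h }
    have hI : Ideal.span (Set.range fun a : s' => a.1) ≤ I.radical := by
      rw [Ideal.span_le]
      rintro _ ⟨a, rfl⟩
      have ha0 : algebraMap A K a.1 ≠ 0 := (map_ne_zero_iff _ hinjK).mpr a.2.2
      have hxa := (Submodule.mem_iInf _).mp hx a
      refine Submodule.iSup_induction (fun n : ℕ =>
        LinearMap.range (LinearMap.toSpanSingleton A K ((algebraMap A K a.1 ^ n)⁻¹)))
        (motive := fun y => ∃ n : ℕ, IsIntegral (CAlg2.red A) (algebraMap A K (a.1 ^ n) * y)) hxa ?_ ?_ ?_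
      · rintro n _ ⟨r, rfl⟩
        refine ⟨n, ?_⟩
        rw [LinearMap.toSpanSingleton_apply, Algebra.smul_def, map_pow, mul_comm (algebraMap A K r), ← mul_assoc,
          mul_inv_cancel₀ (pow_ne_zero n ha0), one_mul, IsScalarTower.algebraMap_apply A (CAlg2.red A) K r]
        exact isIntegral_algebraMap
      · exact ⟨0, by rw [mul_zero]; exact isIntegral_zero⟩
      · rintro y z ⟨m, hm⟩ ⟨n, hn⟩
        refine ⟨m + n, ?_⟩
        rw [mul_add]
        refine IsIntegral.add ?_ ?_
        · rw [pow_add, mul_comm (a.1 ^ m), map_mul, mul_assoc, IsScalarTower.algebraMap_apply A (CAlg2.red A) K (a.1 ^ n)]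
          exact isIntegral_algebraMap.mul hm
        · rw [pow_add, map_mul, mul_assoc, IsScalarTower.algebraMap_apply A (CAlg2.red A) K (a.1 ^ m)]
          exact isIntegral_algebraMap.mul hn
    obtain ⟨n, hn⟩ := (Ideal.radical_idem I).le (Ideal.radical_mono hI hrad)
    refine ⟨n, ?_⟩
    rw [← map_pow, ← map_pow]
    exact hn
  let jN : N →ₐ[A] K := IsScalarTower.toAlgHom A N K
  let j' : (⨅ a, L a : Submodule A K) →ₗ[A] N :=
    { toFun := fun x => ⟨x.1, hint x.1 x.2⟩
      map_add' := fun x y => rfl
      map_smul' := fun c x => Subtype.ext rfl }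
  let f := Algebra.TensorProduct.map (AlgHom.id A B) jN
  have hf : Function.Injective f :=
    Module.Flat.lTensor_preserves_injective_linearMap (M := B) jN.toLinearMap Subtype.val_injective
  have hcomp : (f.toLinearMap ∘ₗ LinearMap.lTensor B j') = LinearMap.lTensor B (⨅ a, L a).subtype :=
    TensorProduct.ext' fun b x => rfl
  have hwf : f (LinearMap.lTensor B j' w) = e := (LinearMap.congr_fun hcomp w).trans hw
  haveI := Groth.L05.Henselization.Branches.isLocalRing_tensor_of_pi A B N (hA.2 (maximalIdeal N))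
  haveI : IsLocalRing (B ⊗[A] N) := (Algebra.TensorProduct.comm A B N).symm.toRingEquiv.isLocalRing
  have hwi : IsIdempotentElem (LinearMap.lTensor B j' w) := hf (by rw [map_mul, hwf]; exact he)
  have he01 : e = 0 ∨ e = 1 := by
    rcases IsLocalRing.isUnit_or_isUnit_one_sub_self (LinearMap.lTensor B j' w) with hu | hu
    · exact Or.inr (by rw [← hwf, hu.mul_eq_left.mp hwi, map_one])
    · exact Or.inl (by rw [← hwf, hu.mul_right_eq_zero.mp hwi.one_sub_mul_self, map_zero])
  rcases he01 with h0 | h1
  · refine Or.inr fun P hP => ?_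
    obtain ⟨Q, hQS, hQP⟩ := hdense P
    by_contra hP2
    obtain ⟨Q', hQ'⟩ := hQS
    have hQ1 : Q ∈ W₁ := hQP.mem_open hW₁ ((hcov hP).resolve_right hP2)
    have : Q' ∈ PrimeSpectrum.comap g ⁻¹' W₁ := by rw [Set.mem_preimage, hQ']; exact hQ1
    rw [heW, h0, PrimeSpectrum.basicOpen_zero] at this
    exact this
  · refine Or.inl fun P hP => ?_
    obtain ⟨Q, hQS, hQP⟩ := hdense P
    by_contra hP1
    obtain ⟨Q', hQ'⟩ := hQS
    have hQ2 : Q ∈ W₂ := hQP.mem_open hW₂ ((hcov hP).resolve_left hP1)
    have : Q' ∈ PrimeSpectrum.comap g ⁻¹' W₁ := by rw [heW, h1, PrimeSpectrum.basicOpen_one]; trivial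
    rw [Set.mem_preimage, hQ'] at this
    exact hexcl Q (hSU ⟨Q', hQ'⟩) this hQ2

end Groth.L05.ComplConnectedScheme
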